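import Mathlib
set_option autoImplicit false
universe u

/-!
# Decomposition of `1` into connected idempotents in a Noetherian ring (helper2)
-/

namespace Groth.Agent.Helper2.Sep

variable {R : Type u} [CommRing R]

/-- `e` is an idempotent such that every idempotent below it is `0` or `e`. -/
def IsConnIdem (e : R) : Prop :=
  IsIdempotentElem e ∧ ∀ f : R, IsIdempotentElem f → f * e = f → f = 0 ∨ f = e

/-- a decomposition of the idempotent `e` into orthogonal connected idempotents -/
def HasDecomp (e : R) : Prop :=
  ∃ s : Finset R, (∀ x ∈ s, IsConnIdem x ∧ x * e = x) ∧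
    (∀ x ∈ s, ∀ y ∈ s, x ≠ y → x * y = 0) ∧ ∑ x ∈ s, x = e

theorem hasDecomp_of_isConnIdem {e : R} (h : IsConnIdem e) : HasDecomp e := by
  classical
  refine ⟨{e}, ?_, ?_, ?_⟩
  · intro x hx
    rw [Finset.mem_singleton] at hx
    subst hx
    exact ⟨h, h.1.eq⟩
  · intro x hx y hy hxy
    rw [Finset.mem_singleton] at hx hy
    exact absurd (hx.trans hy.symm) hxy
  · rw [Finset.sum_singleton]

theorem hasDecomp_add {e f g : R} (hfg : f * g = 0) (hef : f * e = f) (heg : g * e = g)
    (hsum : f + g = e) (hf : HasDecomp f) (hg : HasDecomp g) : HasDecomp e := by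
  classical
  obtain ⟨s, hs1, hs2, hs3⟩ := hf
  obtain ⟨t, ht1, ht2, ht3⟩ := hg
  have hcross : ∀ x ∈ s, ∀ y ∈ t, x * y = 0 := by
    intro x hx y hy
    have h1 := (hs1 x hx).2
    have h2 := (ht1 y hy).2
    calc x * y = (x * f) * (y * g) := by rw [h1, h2]
      _ = x * y * (f * g) := by ring
      _ = 0 := by rw [hfg, mul_zero]
  have hinter : ∀ x ∈ s ∩ t, x = 0 := by
    intro x hx
    rw [Finset.mem_inter] at hx
    have h1 := hcross x hx.1 x hx.2
    have h2 : x * x = x := (hs1 x hx.1).1.1.eq
    rw [h2] at h1
    exact h1
  refine ⟨s ∪ t, ?_, ?_, ?_⟩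
  · intro x hx
    rw [Finset.mem_union] at hx
    rcases hx with hx | hx
    · refine ⟨(hs1 x hx).1, ?_⟩
      calc x * e = (x * f) * e := by rw [(hs1 x hx).2]
        _ = x * (f * e) := by ring
        _ = x := by rw [hef, (hs1 x hx).2]
    · refine ⟨(ht1 x hx).1, ?_⟩
      calc x * e = (x * g) * e := by rw [(ht1 x hx).2]
        _ = x * (g * e) := by ring
        _ = x := by rw [heg, (ht1 x hx).2]
  · intro x hx y hy hxy
    rw [Finset.mem_union] at hx hy
    rcases hx with hx | hx <;> rcases hy with hy | hy
    · exact hs2 x hx y hy hxy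
    · exact hcross x hx y hy
    · rw [mul_comm]; exact hcross y hy x hx
    · exact ht2 x hx y hy hxy
  · have h1 := Finset.sum_union_inter (s₁ := s) (s₂ := t) (f := fun x : R => x)
    have h2 : ∑ x ∈ s ∩ t, x = 0 := Finset.sum_eq_zero hinter
    rw [h2, add_zero, hs3, ht3, hsum] at h1
    exact h1

/-- in a Noetherian ring every idempotent is a finite orthogonal sum of connected idempotents -/
theorem hasDecomp_of_isNoetherianRing [IsNoetherianRing R] (e : R) (he : IsIdempotentElem e) :
    HasDecomp e := by
  classical
  have key : ∀ I : Ideal R, ∀ e : R, IsIdempotentElem e → I = Ideal.span {1 - e} → HasDecomp e := by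
    intro I
    induction I using IsNoetherian.induction with
    | hgt I ih =>
    intro e he hI
    by_cases hc : IsConnIdem e
    · exact hasDecomp_of_isConnIdem hc
    · unfold IsConnIdem at hc
      push Not at hc
      obtain ⟨f, hf, hfe, hf0, hfne⟩ := hc he
      have hf' : f * f = f := hf.eq
      have he' : e * e = e := he.eq
      set g := e - f with hg
      have hgi : IsIdempotentElem g := by
        show g * g = g
        rw [hg]
        linear_combination he' + hf' - 2 * hfe
      have hfg : f * g = 0 := by
        rw [hg]; linear_combination hfe - hf'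
      have hge : g * e = g := by
        rw [hg]; linear_combination he' - hfe
      have hlt : ∀ h : R, IsIdempotentElem h → h * e = h → h ≠ e →
          I < Ideal.span {1 - h} := by
        intro h hh hhe hne
        rw [hI]
        refine lt_of_le_of_ne ?_ ?_
        · rw [Ideal.span_singleton_le_span_singleton]
          refine ⟨1 - e, ?_⟩
          linear_combination (-1 : R) * hhe
        · intro heq
          have h1 : (1 - h) ∈ Ideal.span ({1 - e} : Set R) := by
            rw [heq]; exact Ideal.subset_span rfl
          rw [Ideal.mem_span_singleton'] at h1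
          obtain ⟨r, hr⟩ := h1
          apply hne
          have h2 : (1 - h) * e = 0 := by
            rw [← hr]
            linear_combination (-r) * he'
          linear_combination (-1 : R) * h2 - hhe
      have hgne : g ≠ e := by
        intro h
        apply hf0
        rw [hg] at h
        linear_combination (-1 : R) * h
      exact hasDecomp_add hfg hfe hge (by rw [hg]; ring)
        (ih _ (hlt f hf hfe hfne) f hf rfl) (ih _ (hlt g hgi hge hgne) g hgi rfl)
  exact key _ e he rfl

end Groth.Agent.Helper2.Sep
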