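import Mathlib
import Groth.Agent.Lib.Helper2.Sep.Idem
import Groth.Agent.Lib.Helper9.Comod
set_option autoImplicit false
universe u v

/-!
# Connectedness of tensor products over an algebraically closed field (helper2)
-/

namespace Groth.Agent.Helper2.Sep

open Polynomial TensorProduct Groth.Agent.Helper9

variable {k : Type u} [Field k]

/-- `R` has only the trivial idempotents -/
def IsConn (R : Type*) [CommRing R] : Prop := ∀ e : R, IsIdempotentElem e → e = 0 ∨ e = 1

/-- a root of a separable polynomial in a connected algebra over an algebraically closed
field is a scalar -/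
theorem eq_algebraMap_of_aeval_eq_zero [IsAlgClosed k] {R : Type*} [CommRing R] [Algebra k R]
    (hR : IsConn R) (z : R) :
    ∀ (n : ℕ) (p : k[X]), p.natDegree = n → p.Separable → aeval z p = 0 →
      ∃ c : k, z = algebraMap k R c := by
  intro n
  induction n with
  | zero =>
    intro p hdeg hsep hz
    rw [Polynomial.natDegree_eq_zero] at hdeg
    obtain ⟨a, rfl⟩ := hdeg
    rw [Polynomial.separable_C] at hsep
    rw [aeval_C] at hz
    have h1 : (1 : R) = 0 := by
      have := congrArg (fun x => algebraMap k R (hsep.unit⁻¹ : kˣ) * x) hz
      simp only [mul_zero] at this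
      rw [← map_mul] at this
      have h2 : ((hsep.unit⁻¹ : kˣ) : k) * a = 1 := by
        have := hsep.unit.inv_mul
        simpa using this
      rw [h2, map_one] at this
      exact this
    refine ⟨0, ?_⟩
    rw [map_zero]
    calc z = z * 1 := (mul_one z).symm
      _ = 0 := by rw [h1, mul_zero]
  | succ n ih =>
    intro p hdeg hsep hz
    have hdeg' : p.degree ≠ 0 := by
      intro h
      have := Polynomial.natDegree_eq_zero_iff_degree_le_zero.mpr (le_of_eq h)
      omega
    obtain ⟨c, hc⟩ := IsAlgClosed.exists_root p hdeg'
    have hfac : (X - C c) * (p /ₘ (X - C c)) = p := Polynomial.mul_divByMonic_eq_iff_isRoot.mpr hc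
    set q := p /ₘ (X - C c) with hq
    have hqdeg : q.natDegree = n := by
      have := Polynomial.natDegree_divByMonic p (Polynomial.monic_X_sub_C c)
      rw [Polynomial.natDegree_X_sub_C] at this
      rw [hq, this, hdeg]
      rfl
    have hsep' : ((X - C c) * q).Separable := by rw [hfac]; exact hsep
    have hqsep : q.Separable := hsep'.of_mul_right
    obtain ⟨u, w, huw⟩ := hsep'.isCoprime
    have hzc : aeval z (X - C c) = z - algebraMap k R c := by
      rw [map_sub, aeval_X, aeval_C]
    have hprod : (z - algebraMap k R c) * aeval z q = 0 := by
      rw [← hzc, ← map_mul, hfac, hz]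
    set a := aeval z u * (z - algebraMap k R c) with ha
    set b := aeval z w * aeval z q with hb
    have hab : a + b = 1 := by
      have := congrArg (aeval z) huw
      rw [map_add, map_mul, map_mul, hzc, map_one] at this
      exact this
    have hab0 : a * b = 0 := by
      rw [ha, hb]
      calc aeval z u * (z - algebraMap k R c) * (aeval z w * aeval z q)
          = aeval z u * aeval z w * ((z - algebraMap k R c) * aeval z q) := by ring
        _ = 0 := by rw [hprod, mul_zero]
    have haid : IsIdempotentElem a := by
      show a * a = a
      have : a * a = a * (a + b) - a * b := by ring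
      rw [this, hab, hab0, mul_one, sub_zero]
    rcases hR a haid with h0 | h1
    · -- `aeval z q` is a unit
      rw [h0, zero_add] at hab
      refine ⟨c, ?_⟩
      have : z - algebraMap k R c = (z - algebraMap k R c) * (aeval z w * aeval z q) := by
        rw [← hb, hab, mul_one]
      have h2 : z - algebraMap k R c = 0 := by
        rw [this]
        calc (z - algebraMap k R c) * (aeval z w * aeval z q)
            = aeval z w * ((z - algebraMap k R c) * aeval z q) := by ring
          _ = 0 := by rw [hprod, mul_zero]
      exact sub_eq_zero.mp h2
    · -- `z - c` is a unit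
      apply ih q hqdeg hqsep
      have : aeval z q = (aeval z u * (z - algebraMap k R c)) * aeval z q := by
        rw [← ha, h1, one_mul]
      rw [this]
      calc aeval z u * (z - algebraMap k R c) * aeval z q
          = aeval z u * ((z - algebraMap k R c) * aeval z q) := by ring
        _ = 0 := by rw [hprod, mul_zero]

/-- a separable element of a connected algebra over an algebraically closed field is a scalar -/
theorem eq_algebraMap_of_isSeparable [IsAlgClosed k] {R : Type*} [CommRing R] [Algebra k R]
    (hR : IsConn R) (z : R) (hz : IsSeparable k z) : ∃ c : k, z = algebraMap k R c :=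
  eq_algebraMap_of_aeval_eq_zero hR z _ (minpoly k z) rfl hz (minpoly.aeval k z)

/-- separability is preserved by algebra homomorphisms -/
theorem isSeparable_map {A B : Type*} [CommRing A] [CommRing B] [Algebra k A] [Algebra k B]
    (f : A →ₐ[k] B) {x : A} (hx : IsSeparable k x) : IsSeparable k (f x) := by
  have hint : IsIntegral k x := by
    by_contra h
    have : minpoly k x = 0 := minpoly.eq_zero h
    unfold IsSeparable at hx
    rw [this] at hx
    exact Polynomial.not_separable_zero hx
  have h1 : aeval (f x) (minpoly k x) = 0 := by
    rw [Polynomial.aeval_algHom_apply, minpoly.aeval, map_zero]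
  exact hx.of_dvd (minpoly.dvd k (f x) h1)

/-- an idempotent is separable -/
theorem isSeparable_of_isIdempotentElem {A : Type*} [CommRing A] [Algebra k A] {e : A}
    (he : IsIdempotentElem e) : IsSeparable k e := by
  have h1 : aeval e ((X - C (0 : k)) * (X - C (1 : k)) : k[X]) = 0 := by
    rw [map_mul, map_sub, map_sub, aeval_X, aeval_C, aeval_C, map_zero, map_one, sub_zero,
      mul_sub, mul_one, he.eq, sub_self]
  have hsep : ((X - C (0 : k)) * (X - C (1 : k)) : k[X]).Separable := by
    apply Polynomial.Separable.mul Polynomial.separable_X_sub_C Polynomial.separable_X_sub_C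
    apply Polynomial.isCoprime_X_sub_C_of_isUnit_sub
    rw [zero_sub]
    exact (isUnit_one (M := k)).neg
  exact hsep.of_dvd (minpoly.dvd k e h1)

end Groth.Agent.Helper2.Sep
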