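import Mathlib
import Groth.Agent.Lib.Helper2.Sep.Conn
set_option autoImplicit false
universe u v

/-!
# The tensor product of connected algebras over an algebraically closed field is connected
-/

namespace Groth.Agent.Helper2.Sep

open Polynomial TensorProduct Groth.Agent.Helper9

variable {k : Type u} [Field k]

section points

variable {R₁ : Type u} [CommRing R₁] [Algebra k R₁]

/-- maximal ideals of a finitely generated algebra over an algebraically closed field are
kernels of `k`-points -/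
theorem exists_algHom_ker_eq [IsAlgClosed k] [Algebra.FiniteType k R₁] (𝔪 : Ideal R₁)
    [h𝔪 : 𝔪.IsMaximal] : ∃ χ : R₁ →ₐ[k] k, RingHom.ker χ = 𝔪 := by
  letI : Field (R₁ ⧸ 𝔪) := Ideal.Quotient.field 𝔪
  haveI : Algebra.FiniteType k (R₁ ⧸ 𝔪) :=
    Algebra.FiniteType.of_surjective (Ideal.Quotient.mkₐ k 𝔪) (Ideal.Quotient.mkₐ_surjective k 𝔪)
  haveI : Module.Finite k (R₁ ⧸ 𝔪) := finite_of_finite_type_of_isJacobsonRing k (R₁ ⧸ 𝔪)
  haveI : Algebra.IsIntegral k (R₁ ⧸ 𝔪) := Algebra.IsIntegral.of_finite k (R₁ ⧸ 𝔪)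
  have hbij : Function.Bijective (algebraMap k (R₁ ⧸ 𝔪)) :=
    IsAlgClosed.algebraMap_bijective_of_isIntegral
  let e : k ≃ₐ[k] (R₁ ⧸ 𝔪) := AlgEquiv.ofBijective (Algebra.ofId k (R₁ ⧸ 𝔪)) hbij
  refine ⟨(e.symm : (R₁ ⧸ 𝔪) →ₐ[k] k).comp (Ideal.Quotient.mkₐ k 𝔪), ?_⟩
  ext x
  rw [RingHom.mem_ker]
  change e.symm (Ideal.Quotient.mk 𝔪 x) = 0 ↔ _
  rw [map_eq_zero_iff _ e.symm.injective, Ideal.Quotient.eq_zero_iff_mem]

/-- an element lying in the kernels of all `k`-points is nilpotent -/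
theorem isNilpotent_of_forall_algHom [IsAlgClosed k] [Algebra.FiniteType k R₁] (x : R₁)
    (hx : ∀ χ : R₁ →ₐ[k] k, χ x = 0) : IsNilpotent x := by
  haveI : IsJacobsonRing R₁ := isJacobsonRing_of_finiteType (A := k) (B := R₁)
  have h1 : (nilradical R₁).jacobson = nilradical R₁ :=
    IsJacobsonRing.out' _ (Ideal.radical_isRadical _)
  rw [← mem_nilradical, ← h1, Ideal.jacobson, Ideal.mem_sInf]
  rintro M ⟨-, hM⟩
  haveI := hM
  obtain ⟨χ, hχ⟩ := exists_algHom_ker_eq (k := k) M
  rw [← hχ, RingHom.mem_ker]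
  exact hx χ

end points

section ev

variable {R₁ : Type u} {R₂ : Type u} [CommRing R₁] [CommRing R₂] [Algebra k R₁] [Algebra k R₂]

/-- evaluation at a point of the first factor -/
noncomputable def evPt (χ : R₁ →ₐ[k] k) : R₁ ⊗[k] R₂ →ₐ[k] R₂ :=
  Algebra.TensorProduct.lift ((Algebra.ofId k R₂).comp χ) (AlgHom.id k R₂)
    (fun _ _ => Commute.all _ _)

@[simp] lemma evPt_tmul (χ : R₁ →ₐ[k] k) (a : R₁) (b : R₂) :
    evPt χ (a ⊗ₜ[k] b) = χ a • b := by
  unfold evPt
  rw [Algebra.TensorProduct.lift_tmul]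
  simp [Algebra.ofId_apply, Algebra.smul_def]

/-- a functional applied to the evaluation is the point applied to the slice -/
lemma apply_evPt (χ : R₁ →ₐ[k] k) (f : R₂ →ₗ[k] k) (x : R₁ ⊗[k] R₂) :
    f (evPt χ x) = χ (slice f x) := by
  induction x using TensorProduct.induction_on with
  | zero => simp
  | tmul a b =>
    rw [evPt_tmul, slice_tmul, map_smul, map_smul, smul_eq_mul, smul_eq_mul, mul_comm]
  | add x y hx hy => rw [map_add, map_add, map_add, map_add, hx, hy]

lemma evPt_eq_zero_iff (χ : R₁ →ₐ[k] k) (x : R₁ ⊗[k] R₂) :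
    evPt χ x = 0 ↔ ∀ f : R₂ →ₗ[k] k, χ (slice f x) = 0 := by
  constructor
  · intro h f
    rw [← apply_evPt, h, map_zero]
  · intro h
    apply (Module.forall_dual_apply_eq_zero_iff k (evPt χ x)).mp
    intro f
    rw [apply_evPt]
    exact h f

/-- an element all of whose slices are nilpotent is nilpotent -/
lemma isNilpotent_of_slice (x : R₁ ⊗[k] R₂) (h : ∀ f : R₂ →ₗ[k] k, IsNilpotent (slice f x)) :
    IsNilpotent x := by
  let W : Submodule k R₁ := (nilradical R₁).restrictScalars k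
  have hx : x ∈ LinearMap.range (W.subtype.rTensor R₂) := by
    apply mem_range_rTensor_subtype_of_slice_mem
    intro f
    exact h f
  obtain ⟨y, rfl⟩ := hx
  rw [← mem_nilradical]
  clear h
  induction y using TensorProduct.induction_on with
  | zero => rw [map_zero]; exact Ideal.zero_mem _
  | tmul a b =>
    rw [LinearMap.rTensor_tmul, mem_nilradical]
    obtain ⟨n, hn⟩ : IsNilpotent (a : R₁) := a.2
    refine ⟨n, ?_⟩
    change ((a : R₁) ⊗ₜ[k] b) ^ n = 0
    rw [Algebra.TensorProduct.tmul_pow, hn, TensorProduct.zero_tmul]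
  | add y z hy hz => rw [map_add]; exact Ideal.add_mem _ hy hz

end ev

section conn

variable {R₁ : Type u} {R₂ : Type u} [CommRing R₁] [CommRing R₂] [Algebra k R₁] [Algebra k R₂]

lemma eq_zero_of_idem_of_isNilpotent {R : Type*} [CommRing R] (x : R) (hx : IsIdempotentElem x)
    (hnil : IsNilpotent x) : x = 0 := by
  obtain ⟨n, hn⟩ := hnil
  rcases Nat.eq_zero_or_pos n with h0 | hpos
  · rw [h0, pow_zero] at hn
    calc x = x * 1 := (mul_one x).symm
      _ = 0 := by rw [hn, mul_zero]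
  · rw [hx.pow_eq (Nat.pos_iff_ne_zero.mp hpos)] at hn
    exact hn

/-- an idempotent vanishing at all points of the first factor is zero -/
lemma eq_zero_of_idem_of_forall_evPt [IsAlgClosed k] [Algebra.FiniteType k R₁]
    (x : R₁ ⊗[k] R₂) (hx : IsIdempotentElem x) (h : ∀ χ : R₁ →ₐ[k] k, evPt χ x = 0) : x = 0 := by
  apply eq_zero_of_idem_of_isNilpotent x hx
  apply isNilpotent_of_slice
  intro f
  apply isNilpotent_of_forall_algHom (k := k)
  intro χ
  exact (evPt_eq_zero_iff χ x).mp (h χ) f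

/-- **The tensor product of connected algebras over an algebraically closed field is connected**
(the first factor being finitely generated). -/
theorem isConn_tensor [IsAlgClosed k] [Algebra.FiniteType k R₁] (h₁ : IsConn R₁)
    (h₂ : IsConn R₂) : IsConn (R₁ ⊗[k] R₂) := by
  intro ε hε
  -- the case of a trivial second factor
  rcases subsingleton_or_nontrivial R₂ with hsub | hnt
  · left
    have h1 : (1 : R₁ ⊗[k] R₂) = 0 := by
      rw [Algebra.TensorProduct.one_def, Subsingleton.elim (1 : R₂) 0, TensorProduct.tmul_zero]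
    calc ε = ε * 1 := (mul_one ε).symm
      _ = 0 := by rw [h1, mul_zero]
  have hε' : IsIdempotentElem (1 - ε) := hε.one_sub
  -- the value at each point is `0` or `1`
  have hval : ∀ χ : R₁ →ₐ[k] k, evPt χ ε = 0 ∨ evPt χ (1 - ε) = 0 := by
    intro χ
    rcases h₂ (evPt χ ε) (hε.map (evPt χ)) with h | h
    · left; exact h
    · right; rw [map_sub, map_one, h, sub_self]
  -- the ideals of slices
  let I₀ : Ideal R₁ := Ideal.span (Set.range fun f : R₂ →ₗ[k] k => slice f ε)
  let I₁ : Ideal R₁ := Ideal.span (Set.range fun f : R₂ →ₗ[k] k => slice f (1 - ε))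
  have hI₀ : ∀ χ : R₁ →ₐ[k] k, evPt χ ε = 0 → I₀ ≤ RingHom.ker χ := by
    intro χ h
    rw [Ideal.span_le]
    rintro _ ⟨f, rfl⟩
    exact (evPt_eq_zero_iff χ ε).mp h f
  have hI₁ : ∀ χ : R₁ →ₐ[k] k, evPt χ (1 - ε) = 0 → I₁ ≤ RingHom.ker χ := by
    intro χ h
    rw [Ideal.span_le]
    rintro _ ⟨f, rfl⟩
    exact (evPt_eq_zero_iff χ (1 - ε)).mp h f
  have hI₀' : ∀ χ : R₁ →ₐ[k] k, I₀ ≤ RingHom.ker χ → evPt χ ε = 0 := by
    intro χ h
    rw [evPt_eq_zero_iff]
    intro f
    exact h (Ideal.subset_span ⟨f, rfl⟩)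
  have hI₁' : ∀ χ : R₁ →ₐ[k] k, I₁ ≤ RingHom.ker χ → evPt χ (1 - ε) = 0 := by
    intro χ h
    rw [evPt_eq_zero_iff]
    intro f
    exact h (Ideal.subset_span ⟨f, rfl⟩)
  -- the two ideals are comaximal
  have hsup : I₀ ⊔ I₁ = ⊤ := by
    by_contra hne
    obtain ⟨M, hM, hle⟩ := Ideal.exists_le_maximal _ hne
    haveI := hM
    obtain ⟨χ, hχ⟩ := exists_algHom_ker_eq (k := k) M
    have e0 := hI₀' χ (by rw [hχ]; exact le_trans le_sup_left hle)
    have e1 := hI₁' χ (by rw [hχ]; exact le_trans le_sup_right hle)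
    rw [map_sub, map_one, e0, sub_zero] at e1
    exact one_ne_zero e1
  obtain ⟨a, ha, a', ha', haa⟩ : ∃ a ∈ I₀, ∃ a' ∈ I₁, a + a' = 1 := by
    have : (1 : R₁) ∈ I₀ ⊔ I₁ := by rw [hsup]; trivial
    exact Submodule.mem_sup.mp this
  -- the product is nilpotent
  have hnil : IsNilpotent (a * a') := by
    apply isNilpotent_of_forall_algHom (k := k)
    intro χ
    rw [map_mul]
    rcases hval χ with h | h
    · have : χ a = 0 := hI₀ χ h ha
      rw [this, zero_mul]
    · have : χ a' = 0 := hI₁ χ h ha'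
      rw [this, mul_zero]
  obtain ⟨N, hN⟩ := hnil
  have hcop : IsCoprime (a ^ (N + 1)) (a' ^ (N + 1)) :=
    IsCoprime.pow ⟨1, 1, by rw [one_mul, one_mul, haa]⟩
  obtain ⟨u, w, huw⟩ := hcop
  set p := u * a ^ (N + 1) with hp
  set q := w * a' ^ (N + 1) with hq
  have hpq0 : p * q = 0 := by
    rw [hp, hq]
    calc u * a ^ (N + 1) * (w * a' ^ (N + 1)) = u * w * ((a * a') ^ N * (a * a')) := by ring
      _ = 0 := by rw [hN, zero_mul, mul_zero]
  have hpid : IsIdempotentElem p := by
    show p * p = p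
    have : p * p = p * (p + q) - p * q := by ring
    rw [this, huw, hpq0, mul_one, sub_zero]
  have hpI : p ∈ I₀ := by
    rw [hp]
    apply Ideal.mul_mem_left
    rw [pow_succ]
    exact Ideal.mul_mem_left _ _ ha
  have hqI : q ∈ I₁ := by
    rw [hq]
    apply Ideal.mul_mem_left
    rw [pow_succ]
    exact Ideal.mul_mem_left _ _ ha'
  rcases h₁ p hpid with h0 | h1
  · -- `I₁ = ⊤`, so `ε` vanishes at all points
    left
    have hq1 : q = 1 := by rw [← huw, h0, zero_add]
    apply eq_zero_of_idem_of_forall_evPt ε hε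
    intro χ
    rcases hval χ with h | h
    · exact h
    · exfalso
      have := hI₁ χ h hqI
      rw [hq1, RingHom.mem_ker, map_one] at this
      exact one_ne_zero this
  · right
    have : 1 - ε = 0 := by
      apply eq_zero_of_idem_of_forall_evPt (1 - ε) hε'
      intro χ
      rcases hval χ with h | h
      · exfalso
        have := hI₀ χ h hpI
        rw [h1, RingHom.mem_ker, map_one] at this
        exact one_ne_zero this
      · exact h
    exact (sub_eq_zero.mp this).symm

end conn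

end Groth.Agent.Helper2.Sep
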