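import Mathlib
import Groth.Agent.Lib.Helper2.Sep.Tensor
set_option autoImplicit false
universe u v

/-!
# The tensor product of domains over an algebraically closed field is a domain (helper2)
-/

namespace Groth.Agent.Helper2.Sep

open Polynomial TensorProduct Groth.Agent.Helper9

variable {k : Type u} [Field k]
variable {R₁ : Type u} {R₂ : Type u} [CommRing R₁] [CommRing R₂] [Algebra k R₁] [Algebra k R₂]

/-- an element vanishing at all points of the first (reduced) factor is zero -/
lemma eq_zero_of_forall_evPt [IsAlgClosed k] [Algebra.FiniteType k R₁] [IsReduced R₁]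
    (x : R₁ ⊗[k] R₂) (h : ∀ χ : R₁ →ₐ[k] k, evPt χ x = 0) : x = 0 := by
  apply eq_zero_of_slice_eq_zero
  intro f
  have hnil : IsNilpotent (slice f x) := by
    apply isNilpotent_of_forall_algHom (k := k)
    intro χ
    exact (evPt_eq_zero_iff χ x).mp (h χ) f
  exact hnil.eq_zero

/-- **The tensor product of two domains over an algebraically closed field has no zero
divisors** (the first factor being finitely generated). -/
theorem noZeroDivisors_tensor [IsAlgClosed k] [Algebra.FiniteType k R₁] [IsDomain R₁]
    [IsDomain R₂] : NoZeroDivisors (R₁ ⊗[k] R₂) := by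
  constructor
  intro x y hxy
  by_contra hne
  push Not at hne
  obtain ⟨hx, hy⟩ := hne
  -- some slice of `x` and some slice of `y` are nonzero
  have hx' : ∃ f : R₂ →ₗ[k] k, slice f x ≠ 0 := by
    by_contra h
    push Not at h
    exact hx (eq_zero_of_slice_eq_zero x h)
  have hy' : ∃ f : R₂ →ₗ[k] k, slice f y ≠ 0 := by
    by_contra h
    push Not at h
    exact hy (eq_zero_of_slice_eq_zero y h)
  obtain ⟨f, hf⟩ := hx'
  obtain ⟨g, hg⟩ := hy'
  -- the product of the two slices vanishes at every point
  have hprod : IsNilpotent (slice f x * slice g y) := by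
    apply isNilpotent_of_forall_algHom (k := k)
    intro χ
    have h1 : evPt χ x * evPt χ y = 0 := by rw [← map_mul, hxy, map_zero]
    rw [map_mul]
    rcases mul_eq_zero.mp h1 with h | h
    · rw [(evPt_eq_zero_iff χ x).mp h f, zero_mul]
    · rw [(evPt_eq_zero_iff χ y).mp h g, mul_zero]
  have := hprod.eq_zero
  rcases mul_eq_zero.mp this with h | h
  · exact hf h
  · exact hg h

end Groth.Agent.Helper2.Sep
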