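import Mathlib
import Groth.Agent.Lib.Helper9.Comod
import Groth.Agent.Lib.Helper2.Unip.CoconnPart
set_option autoImplicit false
universe u v

namespace Groth.Agent.Helper2.Sep

open TensorProduct Groth.Agent.Helper9

variable {k : Type u} [Field k] {A : Type v} [CommRing A] [Algebra k A]

lemma range_map_le_range_rTensor (U : Submodule k A) :
    LinearMap.range (TensorProduct.map U.subtype U.subtype) ≤
      LinearMap.range (U.subtype.rTensor A) := by
  rintro _ ⟨t, rfl⟩
  refine ⟨U.subtype.lTensor U t, ?_⟩
  rw [← LinearMap.comp_apply, LinearMap.rTensor_comp_lTensor]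

lemma comm_range_map (U : Submodule k A) (t : A ⊗[k] A)
    (ht : t ∈ LinearMap.range (TensorProduct.map U.subtype U.subtype)) :
    TensorProduct.comm k A A t ∈ LinearMap.range (TensorProduct.map U.subtype U.subtype) := by
  obtain ⟨s, rfl⟩ := ht
  refine ⟨TensorProduct.comm k U U s, ?_⟩
  induction s using TensorProduct.induction_on with
  | zero => simp
  | tmul a b => simp
  | add x y hx hy => simp only [map_add, hx, hy]

lemma mem_range_rTensor_inf (U V : Submodule k A) (t : A ⊗[k] A)
    (hU : t ∈ LinearMap.range (U.subtype.rTensor A))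
    (hV : t ∈ LinearMap.range (V.subtype.rTensor A)) :
    t ∈ LinearMap.range ((U ⊓ V).subtype.rTensor A) := by
  apply mem_range_rTensor_subtype_of_slice_mem
  intro f
  exact ⟨slice_mem_of_mem_range_rTensor_subtype U t hU f,
    slice_mem_of_mem_range_rTensor_subtype V t hV f⟩

/-- `(U ⊗ U) ∩ (V ⊗ V) = (U ∩ V) ⊗ (U ∩ V)` over a field -/
theorem mem_range_map_inf (U V : Submodule k A) (t : A ⊗[k] A)
    (hU : t ∈ LinearMap.range (TensorProduct.map U.subtype U.subtype))
    (hV : t ∈ LinearMap.range (TensorProduct.map V.subtype V.subtype)) :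
    t ∈ LinearMap.range (TensorProduct.map (U ⊓ V).subtype (U ⊓ V).subtype) := by
  apply Groth.Agent.Helper2.Unip.mem_range_map_subtype
  · exact mem_range_rTensor_inf U V t (range_map_le_range_rTensor U hU)
      (range_map_le_range_rTensor V hV)
  · have h1 := mem_range_rTensor_inf U V _ (range_map_le_range_rTensor U (comm_range_map U t hU))
      (range_map_le_range_rTensor V (comm_range_map V t hV))
    obtain ⟨s, hs⟩ := h1
    refine ⟨TensorProduct.comm k _ _ s, ?_⟩
    have h2' : ∀ t : A ⊗[k] A, t = TensorProduct.comm k A A (TensorProduct.comm k A A t) := by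
      intro t
      induction t using TensorProduct.induction_on with
      | zero => simp
      | tmul a b => simp
      | add x y hx hy => rw [map_add, map_add, ← hx, ← hy]
    have h2 := h2' t
    have h3 : ∀ s : ↥(U ⊓ V) ⊗[k] A, (LinearMap.lTensor A (U ⊓ V).subtype)
        ((TensorProduct.comm k (↥(U ⊓ V)) A) s) =
        (TensorProduct.comm k A A) ((LinearMap.rTensor A (U ⊓ V).subtype) s) := by
      intro s
      induction s using TensorProduct.induction_on with
      | zero => simp
      | tmul a b => simp
      | add x y hx hy => simp only [map_add, hx, hy]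
    rw [h3, hs, ← h2]

end Groth.Agent.Helper2.Sep
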