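import Mathlib
import Groth.Agent.Lib.Helper2.Sep.Tensor
set_option autoImplicit false
universe u v

/-!
# Separable elements of `A ⊗ A` over an algebraically closed field (helper2)
-/

namespace Groth.Agent.Helper2.Sep

open Polynomial TensorProduct Groth.Agent.Helper9

variable {k : Type u} [Field k]

section fg

variable {A : Type u} [CommRing A] [Algebra k A]

lemma range_map_val_mono {A₁ A₂ : Subalgebra k A} (h : A₁ ≤ A₂) :
    LinearMap.range (TensorProduct.map A₁.val.toLinearMap A₁.val.toLinearMap) ≤
      LinearMap.range (TensorProduct.map A₂.val.toLinearMap A₂.val.toLinearMap) := by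
  rintro _ ⟨t, rfl⟩
  refine ⟨TensorProduct.map (Subalgebra.inclusion h).toLinearMap
    (Subalgebra.inclusion h).toLinearMap t, ?_⟩
  rw [← LinearMap.comp_apply, ← TensorProduct.map_comp]
  rfl

/-- every element of `A ⊗ A` comes from a finitely generated subalgebra -/
theorem exists_fg_mem_range (z : A ⊗[k] A) :
    ∃ A' : Subalgebra k A, A'.FG ∧
      z ∈ LinearMap.range (TensorProduct.map A'.val.toLinearMap A'.val.toLinearMap) := by
  induction z using TensorProduct.induction_on with
  | zero => exact ⟨⊥, Subalgebra.fg_bot, Submodule.zero_mem _⟩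
  | tmul a b =>
    classical
    have hfg : (Algebra.adjoin k ({a, b} : Set A)).FG := by
      have := Subalgebra.fg_adjoin_finset (R := k) ({a, b} : Finset A)
      simpa using this
    refine ⟨Algebra.adjoin k {a, b}, hfg, ?_⟩
    refine ⟨(⟨a, Algebra.subset_adjoin (by simp)⟩ : Algebra.adjoin k {a, b}) ⊗ₜ[k]
      (⟨b, Algebra.subset_adjoin (by simp)⟩ : Algebra.adjoin k {a, b}), ?_⟩
    rw [TensorProduct.map_tmul]
    rfl
  | add x y hx hy =>
    obtain ⟨A₁, h1, hx⟩ := hx
    obtain ⟨A₂, h2, hy⟩ := hy
    exact ⟨A₁ ⊔ A₂, h1.sup h2, Submodule.add_mem _ (range_map_val_mono le_sup_left hx)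
      (range_map_val_mono le_sup_right hy)⟩

end fg

section fgcase

variable {A : Type u} [CommRing A] [Algebra k A]

/-- the quotient by `1 - e` for a connected idempotent `e` is connected -/
theorem isConn_quotient_of_isConnIdem {e : A} (he : IsConnIdem e) :
    IsConn (A ⧸ Ideal.span ({1 - e} : Set A)) := by
  intro g hg
  obtain ⟨g, rfl⟩ := Ideal.Quotient.mk_surjective g
  have hmke : Ideal.Quotient.mk (Ideal.span ({1 - e} : Set A)) e = 1 := by
    have : Ideal.Quotient.mk (Ideal.span ({1 - e} : Set A)) (1 - e) = 0 :=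
      Ideal.Quotient.eq_zero_iff_mem.mpr (Ideal.subset_span rfl)
    rw [map_sub, map_one, sub_eq_zero] at this
    exact this.symm
  have hg' : g * g - g ∈ Ideal.span ({1 - e} : Set A) := by
    rw [← Ideal.Quotient.eq_zero_iff_mem, map_sub, map_mul, hg.eq, sub_self]
  rw [Ideal.mem_span_singleton'] at hg'
  obtain ⟨r, hr⟩ := hg'
  have hee : e * e = e := he.1.eq
  have hge : IsIdempotentElem (g * e) := by
    show g * e * (g * e) = g * e
    have h1 : (g * g - g) * e = 0 := by
      rw [← hr]
      linear_combination (-r) * hee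
    linear_combination g * g * hee + h1
  have hmk : Ideal.Quotient.mk (Ideal.span ({1 - e} : Set A)) g =
      Ideal.Quotient.mk (Ideal.span ({1 - e} : Set A)) (g * e) := by
    rw [map_mul, hmke, mul_one]
  rcases he.2 (g * e) hge (by rw [mul_assoc, hee]) with h | h
  · left; rw [hmk, h, map_zero]
  · right; rw [hmk, h, hmke]

lemma mk_of_ne {s : Finset A} (hs : ∀ x ∈ s, ∀ y ∈ s, x ≠ y → x * y = 0) {e e' : A} (he : e ∈ s)
    (he' : e' ∈ s) (hne : e' ≠ e) :
    Ideal.Quotient.mk (Ideal.span ({1 - e} : Set A)) e' = 0 := by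
  rw [Ideal.Quotient.eq_zero_iff_mem, Ideal.mem_span_singleton']
  refine ⟨e', ?_⟩
  have := hs e' he' e he hne
  linear_combination (-1 : A) * this

lemma mk_self (e : A) : Ideal.Quotient.mk (Ideal.span ({1 - e} : Set A)) e = 1 := by
  have : Ideal.Quotient.mk (Ideal.span ({1 - e} : Set A)) (1 - e) = 0 :=
    Ideal.Quotient.eq_zero_iff_mem.mpr (Ideal.subset_span rfl)
  rw [map_sub, map_one, sub_eq_zero] at this
  exact this.symm

/-- the map to the tensor product of two components -/
noncomputable def compMap (e f : A) : A ⊗[k] A →ₐ[k]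
    (A ⧸ Ideal.span ({1 - e} : Set A)) ⊗[k] (A ⧸ Ideal.span ({1 - f} : Set A)) :=
  Algebra.TensorProduct.map (Ideal.Quotient.mkₐ k _) (Ideal.Quotient.mkₐ k _)

lemma mul_tmul_eq_zero_of_compMap (e f : A) (he : IsIdempotentElem e) (hf : IsIdempotentElem f)
    (x : A ⊗[k] A) (hx : compMap e f x = 0) : x * (e ⊗ₜ[k] f) = 0 := by
  have hker : x ∈ RingHom.ker (compMap (k := k) e f) := hx
  unfold compMap at hker
  rw [Algebra.TensorProduct.map_ker _ _ (Ideal.Quotient.mkₐ_surjective k _)
    (Ideal.Quotient.mkₐ_surjective k _)] at hker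
  have hann : ∀ y ∈ (RingHom.ker (Ideal.Quotient.mkₐ k (Ideal.span ({1 - e} : Set A)))).map
      (Algebra.TensorProduct.includeLeft : A →ₐ[k] A ⊗[k] A) ⊔
      (RingHom.ker (Ideal.Quotient.mkₐ k (Ideal.span ({1 - f} : Set A)))).map
      (Algebra.TensorProduct.includeRight : A →ₐ[k] A ⊗[k] A),
      y ∈ (Ideal.span ({e ⊗ₜ[k] f} : Set (A ⊗[k] A))).annihilator := by
    intro y hy
    have hle : (RingHom.ker (Ideal.Quotient.mkₐ k (Ideal.span ({1 - e} : Set A)))).map
      (Algebra.TensorProduct.includeLeft : A →ₐ[k] A ⊗[k] A) ⊔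
      (RingHom.ker (Ideal.Quotient.mkₐ k (Ideal.span ({1 - f} : Set A)))).map
      (Algebra.TensorProduct.includeRight : A →ₐ[k] A ⊗[k] A) ≤
      (Ideal.span ({e ⊗ₜ[k] f} : Set (A ⊗[k] A))).annihilator := by
      apply sup_le
      · rw [Ideal.map_le_iff_le_comap]
        intro a ha
        rw [RingHom.mem_ker] at ha
        change Ideal.Quotient.mk _ a = 0 at ha
        rw [Ideal.Quotient.eq_zero_iff_mem, Ideal.mem_span_singleton'] at ha
        obtain ⟨r, rfl⟩ := ha
        rw [Ideal.mem_comap, Submodule.mem_annihilator_span_singleton]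
        change (r * (1 - e)) ⊗ₜ[k] (1 : A) • e ⊗ₜ[k] f = 0
        rw [smul_eq_mul, Algebra.TensorProduct.tmul_mul_tmul]
        have : r * (1 - e) * e = 0 := by linear_combination (-r) * he.eq
        rw [this, TensorProduct.zero_tmul]
      · rw [Ideal.map_le_iff_le_comap]
        intro a ha
        rw [RingHom.mem_ker] at ha
        change Ideal.Quotient.mk _ a = 0 at ha
        rw [Ideal.Quotient.eq_zero_iff_mem, Ideal.mem_span_singleton'] at ha
        obtain ⟨r, rfl⟩ := ha
        rw [Ideal.mem_comap, Submodule.mem_annihilator_span_singleton]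
        change (1 : A) ⊗ₜ[k] (r * (1 - f)) • e ⊗ₜ[k] f = 0
        rw [smul_eq_mul, Algebra.TensorProduct.tmul_mul_tmul]
        have : r * (1 - f) * f = 0 := by linear_combination (-r) * hf.eq
        rw [this, TensorProduct.tmul_zero]
    exact hle hy
  have := hann x hker
  rw [Submodule.mem_annihilator_span_singleton, smul_eq_mul] at this
  exact this

/-- **Separable elements of `A ⊗ A`, finitely generated case**: they are combinations of
tensors of idempotents. -/
theorem mem_span_idem_tmul_of_isSeparable [IsAlgClosed k] [Algebra.FiniteType k A]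
    (z : A ⊗[k] A) (hz : IsSeparable k z) :
    z ∈ Submodule.span k {t : A ⊗[k] A | ∃ e f : A, IsIdempotentElem e ∧ IsIdempotentElem f ∧
      t = e ⊗ₜ[k] f} := by
  classical
  haveI : IsNoetherianRing A := Algebra.FiniteType.isNoetherianRing k A
  obtain ⟨s, hs1, hs2, hs3⟩ := hasDecomp_of_isNoetherianRing (1 : A) IsIdempotentElem.one
  -- the scalars
  have hc : ∀ e ∈ s, ∀ f ∈ s, ∃ c : k, compMap (k := k) e f z = algebraMap k _ c := by
    intro e he f hf
    haveI : Algebra.FiniteType k (A ⧸ Ideal.span ({1 - e} : Set A)) :=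
      Algebra.FiniteType.of_surjective (Ideal.Quotient.mkₐ k _) (Ideal.Quotient.mkₐ_surjective k _)
    apply eq_algebraMap_of_isSeparable
    · exact isConn_tensor (isConn_quotient_of_isConnIdem (hs1 e he).1)
        (isConn_quotient_of_isConnIdem (hs1 f hf).1)
    · exact isSeparable_map _ hz
  choose! c hc using hc
  set w : A ⊗[k] A := ∑ e ∈ s, ∑ f ∈ s, c e f • (e ⊗ₜ[k] f) with hw
  -- the images of `w`
  have hcw : ∀ e ∈ s, ∀ f ∈ s, compMap (k := k) e f w = algebraMap k _ (c e f) := by
    intro e he f hf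
    rw [hw, map_sum]
    rw [Finset.sum_eq_single e]
    · rw [map_sum, Finset.sum_eq_single f]
      · rw [map_smul]
        unfold compMap
        rw [Algebra.TensorProduct.map_tmul]
        change c e f • (Ideal.Quotient.mk _ e ⊗ₜ[k] Ideal.Quotient.mk _ f) = _
        rw [mk_self, mk_self, Algebra.algebraMap_eq_smul_one, Algebra.TensorProduct.one_def]
      · intro f' hf' hne
        rw [map_smul]
        unfold compMap
        rw [Algebra.TensorProduct.map_tmul]
        change c e f' • (Ideal.Quotient.mk _ e ⊗ₜ[k] Ideal.Quotient.mk _ f') = _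
        rw [mk_of_ne hs2 hf hf' hne, TensorProduct.tmul_zero, smul_zero]
      · intro h; exact absurd hf h
    · intro e' he' hne
      rw [map_sum]
      apply Finset.sum_eq_zero
      intro f' hf'
      rw [map_smul]
      unfold compMap
      rw [Algebra.TensorProduct.map_tmul]
      change c e' f' • (Ideal.Quotient.mk _ e' ⊗ₜ[k] Ideal.Quotient.mk _ f') = _
      rw [mk_of_ne hs2 he he' hne, TensorProduct.zero_tmul, smul_zero]
    · intro h; exact absurd he h
  -- `z = w`
  have hzw : z = w := by
    rw [← sub_eq_zero]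
    have h1 : (1 : A ⊗[k] A) = ∑ e ∈ s, ∑ f ∈ s, e ⊗ₜ[k] f := by
      rw [Algebra.TensorProduct.one_def]
      nth_rw 1 [← hs3]
      rw [TensorProduct.sum_tmul]
      apply Finset.sum_congr rfl
      intro e _
      nth_rw 1 [← hs3]
      rw [TensorProduct.tmul_sum]
    calc z - w = (z - w) * 1 := (mul_one _).symm
      _ = ∑ e ∈ s, ∑ f ∈ s, (z - w) * (e ⊗ₜ[k] f) := by
        rw [h1, Finset.mul_sum]
        apply Finset.sum_congr rfl
        intro e _
        rw [Finset.mul_sum]
      _ = 0 := by
        apply Finset.sum_eq_zero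
        intro e he
        apply Finset.sum_eq_zero
        intro f hf
        apply mul_tmul_eq_zero_of_compMap e f (hs1 e he).1.1 (hs1 f hf).1.1
        rw [map_sub, hc e he f hf, hcw e he f hf, sub_self]
  rw [hzw, hw]
  apply Submodule.sum_mem
  intro e he
  apply Submodule.sum_mem
  intro f hf
  apply Submodule.smul_mem
  exact Submodule.subset_span ⟨e, f, (hs1 e he).1.1, (hs1 f hf).1.1, rfl⟩

end fgcase

section general

variable {A : Type u} [CommRing A] [Algebra k A]

/-- **Separable elements of `A ⊗ A`**: over an algebraically closed field they lie in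
`B₀ ⊗ B₀` for any subalgebra `B₀` containing all idempotents. -/
theorem mem_range_map_of_isSeparable [IsAlgClosed k] (B₀ : Subalgebra k A)
    (hB₀ : ∀ a : A, IsIdempotentElem a → a ∈ B₀) (z : A ⊗[k] A) (hz : IsSeparable k z) :
    z ∈ LinearMap.range (TensorProduct.map B₀.val.toLinearMap B₀.val.toLinearMap) := by
  obtain ⟨A', hfg, z', hz'⟩ := exists_fg_mem_range z
  haveI : Algebra.FiniteType k A' := (Subalgebra.fg_iff_finiteType A').mp hfg
  let ι : A' ⊗[k] A' →ₐ[k] A ⊗[k] A := Algebra.TensorProduct.map A'.val A'.val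
  have hι : ∀ t, ι t = TensorProduct.map A'.val.toLinearMap A'.val.toLinearMap t := by
    intro t
    rfl
  have hinj : Function.Injective ι := by
    have : Function.Injective (TensorProduct.map A'.val.toLinearMap A'.val.toLinearMap) :=
      TensorProduct.map_injective_of_flat_flat _ _ Subtype.val_injective Subtype.val_injective
    intro a b hab
    apply this
    rw [← hι, ← hι, hab]
  have hsep : IsSeparable k z' := by
    rw [← isSeparable_map_iff ι hinj, hι, hz']
    exact hz
  have hmem := mem_span_idem_tmul_of_isSeparable z' hsep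
  rw [← hz', ← hι]
  have hle : Submodule.span k {t : A' ⊗[k] A' | ∃ e f : A', IsIdempotentElem e ∧
      IsIdempotentElem f ∧ t = e ⊗ₜ[k] f} ≤
      (LinearMap.range (TensorProduct.map B₀.val.toLinearMap B₀.val.toLinearMap)).comap
        ι.toLinearMap := by
    rw [Submodule.span_le]
    rintro _ ⟨e, f, he, hf, rfl⟩
    rw [SetLike.mem_coe, Submodule.mem_comap]
    have he' : (e : A) ∈ B₀ := hB₀ _ (by
      have := congrArg Subtype.val he.eq
      exact this)
    have hf' : (f : A) ∈ B₀ := hB₀ _ (by
      have := congrArg Subtype.val hf.eq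
      exact this)
    refine ⟨(⟨e, he'⟩ : B₀) ⊗ₜ[k] (⟨f, hf'⟩ : B₀), ?_⟩
    rw [TensorProduct.map_tmul]
    rfl
  exact hle hmem

end general

end Groth.Agent.Helper2.Sep
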